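/-!
Generated data for the uniqueness of the third Janko group: an elementary abelian subgroup of order sixteen.
-/

set_option autoImplicit false

namespace CfsgLib.JThreeUniq.Data

/-- The elements, by coordinates. -/
def domA : List Nat := [0, 96, 256, 352, 2, 98, 258, 354, 1, 97, 257, 353, 3, 99, 259, 355]

/-- The number in the element inducing a scalar. -/
def omU : Nat := 44

/-- The action of the scalar element, by the images of the basis. -/
def omP : Nat := 51250

/-- The action of the involution. -/
def sigP : Nat := 56190

/-- Actions of the centralizer of the four-group. -/
def actV : List Nat := [33825, 34025, 33957, 33901, 33842, 33918, 34042, 33974, 33811, 33943, 33887, 34011]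

/-- Actions of its extension by the element of order three. -/
def actH : List Nat := [33825, 34025, 33957, 33901, 33842, 33918, 34042, 33974, 33811, 33943, 33887, 34011, 19689, 19565, 19621, 19489, 19582, 19638, 19706, 19506, 19607, 19675, 19551, 19475, 51309, 51233, 51365, 51433, 51382, 51250, 51450, 51326, 51419, 51219, 51295, 51351]

end CfsgLib.JThreeUniq.Data
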