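/-!
Generated data for the uniqueness of the third Janko group: words of the sixty permutations.
-/

set_option autoImplicit false

namespace CfsgLib.JThreeUniq.Data

/-- Words of the even permutations. -/
def permW : List (List Nat) := [
  [],
  [12],
  [12, 12],
  [14, 12, 12, 14, 12, 14],
  [14, 12, 12, 14, 12, 14, 12, 12],
  [14, 12, 12, 14, 12, 14, 12],
  [12, 14, 12, 12, 14, 12, 14],
  [12, 14, 12, 12, 14, 12, 14, 12],
  [12, 14, 12, 12, 14, 12, 14, 12, 12],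
  [12, 12, 14, 12, 12, 14, 12, 14],
  [12, 12, 14, 12, 12, 14, 12, 14, 12, 12],
  [12, 12, 14, 12, 12, 14, 12, 14, 12],
  [14, 12, 14, 12, 12, 14, 12, 14, 12, 12, 14],
  [14, 12, 12, 14, 12, 14, 12, 12, 14, 12, 14],
  [12, 14, 12, 12, 14, 12, 14, 12, 12, 14, 12, 14],
  [12, 12, 14, 12, 12, 14, 12],
  [14, 12, 14, 12, 14],
  [12, 12, 14, 12, 12, 14],
  [14, 12, 12, 14, 12],
  [14, 12, 12, 14],
  [12, 14, 12, 14, 12, 14],
  [12, 14, 12, 12, 14, 12],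
  [12, 12, 14, 12, 14, 12, 14],
  [12, 14, 12, 12, 14],
  [12, 12, 14, 12, 14, 12],
  [12, 12, 14, 12, 14, 12, 12],
  [12, 12, 14, 12, 14],
  [12, 14, 12, 12, 14, 12, 14, 12, 14],
  [12, 14, 12, 14, 12, 12, 14, 12],
  [12, 14, 12, 14, 12, 12, 14],
  [14, 12, 14, 12, 12, 14, 12, 14, 12],
  [14, 12, 14, 12, 12, 14, 12, 14, 12, 12],
  [14, 12, 14, 12, 12, 14, 12, 14],
  [14],
  [14, 12, 12],
  [14, 12],
  [14, 12, 14, 12],
  [14, 12, 14],
  [14, 12, 14, 12, 12],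
  [12, 12, 14, 12, 12, 14, 12, 14, 12, 14],
  [12, 12, 14, 12, 14, 12, 12, 14],
  [12, 12, 14, 12, 14, 12, 12, 14, 12],
  [12, 14],
  [12, 14, 12, 12],
  [12, 14, 12],
  [14, 12, 12, 14, 12, 14, 12, 12, 14],
  [14, 12, 12, 14, 12, 14, 12, 12, 14, 12],
  [12, 14, 12, 14, 12, 12, 14, 12, 14],
  [12, 14, 12, 14, 12],
  [12, 14, 12, 14, 12, 12],
  [12, 14, 12, 14],
  [14, 12, 12, 14, 12, 14, 12, 14],
  [14, 12, 14, 12, 12, 14, 12],
  [14, 12, 14, 12, 12, 14],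
  [12, 14, 12, 12, 14, 12, 14, 12, 12, 14],
  [12, 14, 12, 12, 14, 12, 14, 12, 12, 14, 12],
  [12, 12, 14, 12, 14, 12, 12, 14, 12, 14],
  [12, 12, 14],
  [12, 12, 14, 12, 12],
  [12, 12, 14, 12]]

/-- The numbers of the first eight generators. -/
def genN : List Nat := [1, 2, 4, 8, 16, 30, 32, 1056, 384, 96]

end CfsgLib.JThreeUniq.Data
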